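import Mathlib.FieldTheory.IsAlgClosed.AlgebraicClosure
import Mathlib.RingTheory.Artinian.Module
import Mathlib.Dynamics.Newton
import Mathlib.RingTheory.Unramified.Basic
import Mathlib.RingTheory.SimpleModule.Basic
import Mathlib.RingTheory.Kaehler.Basic
import Mathlib.RingTheory.Etale.Basic
import Mathlib.Algebra.TrivSqZeroExt.Ideal

/-!
# Algebra for the étaleness of the power maps

* `exists_pow_eq`: units of integral algebras over an algebraically closed field in which `n` is invertible are
  `n`-th powers.
* `formallyUnramified_of_dual`: a finite type algebra `A → B` such that for every algebraically closed field `K`,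
  two `A`-algebra maps `B → K[ε]` with the same reduction agree, is formally unramified.
-/

set_option autoImplicit false
universe u

namespace K371.AlgRoot

/-- Units of a finite algebra over an algebraically closed field have `n`-th roots. -/
theorem exists_pow_eq_of_finite {K R : Type*} [Field K] [IsAlgClosed K] [CommRing R] [Algebra K R] [Module.Finite K R]
    {n : ℕ} (hn : (n : K) ≠ 0) (v : Rˣ) : ∃ w : Rˣ, w ^ n = v := by
  have hn0 : 0 < n := by
    rcases Nat.eq_zero_or_pos n with rfl | h
    · exact (hn (by simp)).elim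
    · exact h
  have hnR : IsUnit (n : R) := by
    have := (isUnit_iff_ne_zero.mpr hn).map (algebraMap K R)
    rwa [map_natCast] at this
  have : IsArtinianRing R := IsArtinianRing.of_finite K R
  -- the root modulo the nilradical
  obtain ⟨x, hx⟩ : ∃ x : R, IsNilpotent (x ^ n - v) := by
    have h1 : ∀ m : MaximalSpectrum R, ∃ a : R ⧸ m.asIdeal, a ^ n = Ideal.Quotient.mk _ (v : R) := by
      intro m
      have : m.asIdeal.IsMaximal := m.2
      have h2 : Function.Bijective (algebraMap K (R ⧸ m.asIdeal)) := by
        have : Algebra.IsIntegral K (R ⧸ m.asIdeal) := inferInstance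
        exact IsAlgClosed.algebraMap_bijective_of_isIntegral
      obtain ⟨b, hb⟩ := h2.2 (Ideal.Quotient.mk _ (v : R))
      obtain ⟨z, hz⟩ := IsAlgClosed.exists_pow_nat_eq b hn0
      exact ⟨algebraMap K _ z, by rw [← map_pow, hz, hb]⟩
    choose a ha using h1
    obtain ⟨y, hy⟩ := (IsArtinianRing.quotNilradicalEquivPi R).surjective a
    obtain ⟨x, rfl⟩ := Ideal.Quotient.mk_surjective y
    refine ⟨x, ?_⟩
    rw [← mem_nilradical, ← Ideal.Quotient.eq_zero_iff_mem, map_sub, map_pow]
    apply (IsArtinianRing.quotNilradicalEquivPi R).injective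
    rw [map_zero, map_sub, map_pow, hy]
    funext m
    rw [Pi.sub_apply, Pi.pow_apply, ha]
    exact sub_self _
  have hxu : IsUnit x := by
    have h3 : IsUnit (x ^ n) := by
      have := hx.isUnit_add_right_of_commute v.isUnit (Commute.all _ _)
      rwa [sub_add_cancel] at this
    exact (isUnit_pow_iff hn0.ne').mp h3
  obtain ⟨r, ⟨-, hr⟩, -⟩ := Polynomial.existsUnique_nilpotent_sub_and_aeval_eq_zero
    (P := (Polynomial.X ^ n - Polynomial.C (v : R) : Polynomial R)) (x := x)
    (by simpa using hx) (by
      rw [Polynomial.derivative_sub, Polynomial.derivative_C, sub_zero, Polynomial.derivative_X_pow]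
      simpa using hnR.mul (hxu.pow (n - 1)))
  have h4 : r ^ n = v := by
    simpa [sub_eq_zero] using hr
  have h5 : IsUnit r := (isUnit_pow_iff hn0.ne').mp (by rw [h4]; exact v.isUnit)
  exact ⟨h5.unit, Units.ext h4⟩

/-- Units of an integral algebra over an algebraically closed field have `n`-th roots. -/
theorem exists_pow_eq {K R : Type*} [Field K] [IsAlgClosed K] [CommRing R] [Algebra K R] [Algebra.IsIntegral K R]
    {n : ℕ} (hn : (n : K) ≠ 0) (v : Rˣ) : ∃ w : Rˣ, w ^ n = v := by
  let s : Set R := {(v : R), ((v⁻¹ : Rˣ) : R)}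
  have h1 : Module.Finite K (Algebra.adjoin K s) :=
    Algebra.finite_adjoin_of_finite_of_isIntegral (Set.toFinite s) fun x _ => Algebra.IsIntegral.isIntegral x
  let v' : (Algebra.adjoin K s)ˣ :=
    ⟨⟨v, Algebra.subset_adjoin (by simp [s])⟩, ⟨(v⁻¹ : Rˣ), Algebra.subset_adjoin (by simp [s])⟩,
      Subtype.ext (by simp), Subtype.ext (by simp)⟩
  obtain ⟨w, hw⟩ := exists_pow_eq_of_finite (K := K) hn v'
  refine ⟨Units.map (Algebra.adjoin K s).val.toMonoidHom w, ?_⟩
  rw [← map_pow, hw]
  exact Units.ext rfl

/-- A nonzero finite module has a nonzero map to an algebraically closed field. -/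
theorem exists_linearMap {B M : Type u} [CommRing B] [AddCommGroup M] [Module B M] [Module.Finite B M] [Nontrivial M] :
    ∃ (K : Type u) (_ : Field K) (_ : IsAlgClosed K) (_ : Algebra B K) (l : M →ₗ[B] K), l ≠ 0 := by
  obtain ⟨N, hN⟩ : ∃ N : Submodule B M, IsCoatom N := by
    rcases eq_top_or_exists_le_coatom (⊥ : Submodule B M) with h | ⟨N, hN, -⟩
    · exact (bot_ne_top h).elim
    · exact ⟨N, hN⟩
  have h1 : IsSimpleModule B (M ⧸ N) := isSimpleModule_iff_isCoatom.mpr hN
  obtain ⟨I, hI, ⟨e⟩⟩ := isSimpleModule_iff_quot_maximal.mp h1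
  let _ : Field (B ⧸ I) := Ideal.Quotient.field I
  let K := AlgebraicClosure (B ⧸ I)
  let i : (B ⧸ I) →ₗ[B] K := (IsScalarTower.toAlgHom B (B ⧸ I) K).toLinearMap
  have hi : Function.Injective i := (algebraMap (B ⧸ I) K).injective
  refine ⟨K, inferInstance, inferInstance, inferInstance, i ∘ₗ e.toLinearMap ∘ₗ N.mkQ, fun h => ?_⟩
  have h2 : Subsingleton (M ⧸ N) := by
    refine ⟨fun x y => ?_⟩
    obtain ⟨x, rfl⟩ := N.mkQ_surjective x
    obtain ⟨y, rfl⟩ := N.mkQ_surjective y
    apply e.injective
    apply hi
    have hx := LinearMap.congr_fun h x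
    have hy := LinearMap.congr_fun h y
    exact hx.trans hy.symm
  have h3 : Nontrivial (M ⧸ N) := IsSimpleModule.nontrivial B (M ⧸ N)
  exact not_subsingleton _ h2

/-- The map `B → K[ε]` defined by a derivation. -/
noncomputable def derHom {A B K : Type u} [CommRing A] [CommRing B] [Field K] [Algebra A B] [Algebra B K] [Algebra A K]
    [IsScalarTower A B K] (D : Derivation A B K) : B →ₐ[A] TrivSqZeroExt K K where
  toFun b := TrivSqZeroExt.inl (algebraMap B K b) + TrivSqZeroExt.inr (D b)
  map_one' := by simp
  map_zero' := by simp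
  map_add' x y := by
    ext <;> simp
  map_mul' x y := by
    ext
    · simp
    · simp only [TrivSqZeroExt.snd_add, TrivSqZeroExt.snd_inl, TrivSqZeroExt.snd_inr, TrivSqZeroExt.snd_mul,
        TrivSqZeroExt.fst_add, TrivSqZeroExt.fst_inl, TrivSqZeroExt.fst_inr, zero_add, add_zero,
        Derivation.leibniz, Algebra.smul_def x, Algebra.smul_def y, MulOpposite.smul_eq_mul_unop,
        MulOpposite.unop_op, smul_eq_mul]
      ring
  commutes' r := by
    ext
    · simp [← IsScalarTower.algebraMap_apply]
      rfl
    · simp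
      rfl

theorem fst_derHom {A B K : Type u} [CommRing A] [CommRing B] [Field K] [Algebra A B] [Algebra B K] [Algebra A K]
    [IsScalarTower A B K] (D : Derivation A B K) (b : B) : (derHom D b).fst = algebraMap B K b := by
  simp [derHom]

theorem snd_derHom {A B K : Type u} [CommRing A] [CommRing B] [Field K] [Algebra A B] [Algebra B K] [Algebra A K]
    [IsScalarTower A B K] (D : Derivation A B K) (b : B) : (derHom D b).snd = D b := by
  simp [derHom]

theorem ker_fst_sq (A K : Type u) [CommRing A] [Field K] [Algebra A K] :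
    (RingHom.ker (TrivSqZeroExt.fstHom A K K)) ^ 2 = ⊥ :=
  TrivSqZeroExt.kerIdeal_sq K K

/-- Criterion for formal unramifiedness with dual numbers over algebraically closed fields. -/
theorem formallyUnramified_of_dual {A B : Type u} [CommRing A] [CommRing B] [Algebra A B] [Algebra.FiniteType A B]
    (h : ∀ (K : Type u) [Field K] [IsAlgClosed K] [Algebra A K] (g g' : B →ₐ[A] TrivSqZeroExt K K),
      (TrivSqZeroExt.fstHom A K K).comp g = (TrivSqZeroExt.fstHom A K K).comp g' → g = g') :
    Algebra.FormallyUnramified A B := by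
  rw [Algebra.formallyUnramified_iff]
  by_contra hne
  rw [not_subsingleton_iff_nontrivial] at hne
  obtain ⟨K, _, _, _, l, hl⟩ := exists_linearMap (B := B) (M := Ω[B⁄A])
  let _ : Algebra A K := ((algebraMap B K).comp (algebraMap A B)).toAlgebra
  have : IsScalarTower A B K := IsScalarTower.of_algebraMap_eq fun _ => rfl
  let D : Derivation A B K := l.compDer (KaehlerDifferential.D A B)
  have h1 := h K (derHom D) (derHom 0) (by
    ext b
    change (derHom D b).fst = (derHom 0 b).fst
    rw [fst_derHom, fst_derHom])
  apply hl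
  have h2 : D = 0 := by
    ext b
    rw [← snd_derHom D b, h1, snd_derHom]
  have h3 : D.liftKaehlerDifferential = l := by
    apply Derivation.liftKaehlerDifferential_unique
    rw [Derivation.liftKaehlerDifferential_comp]
  rw [← h3, h2]
  apply Derivation.liftKaehlerDifferential_unique
  rw [Derivation.liftKaehlerDifferential_comp]
  ext b
  simp

end K371.AlgRoot
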