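import Groth.Agent.PicGrp.K858.Thick

/-!
# Roots of invertible classes along square-zero thickenings

`j : X₀ ⟶ X` a closed immersion whose ideal has square zero, `n` invertible on `X`.

* `exists_root`: a class of `Pic X₀` whose `n`-th power lifts to `N ∈ Pic X` lifts to an `n`-th root of `N`;
* `eq_one_of_pow`: if moreover all units of `Γ(X₀, O)` are `n`-th powers, an `n`-torsion class of `Pic X` which is
  trivial on `X₀` is trivial.
-/

set_option autoImplicit false
universe u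

open CategoryTheory CategoryTheory.Limits AlgebraicGeometry Opposite TopologicalSpace

namespace K371.PicRoot

open Groth.Agent.Grpsch.PicGrp

variable {X X₀ : Scheme.{u}}

/-- multiplication by an invertible integer is bijective on cohomology -/
theorem bijective_nsmul (M : X.Modules) (q : ℕ) {n : ℕ} (hn : IsUnit (n : Γ(X, ⊤))) :
    Function.Bijective (fun x : Coh.HH X M q => n • x) := by
  have h1 : (fun x : Coh.HH X M q => n • x) = fun x => (n : Coh.Γtop X) • x := by
    funext x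
    exact (Nat.cast_smul_eq_nsmul (Coh.Γtop X) n x).symm
  rw [h1]
  have hn' : IsUnit (n : Coh.Γtop X) := hn
  obtain ⟨v, hv⟩ := hn'
  rw [← hv]
  exact MulAction.bijective v

theorem bijective_pow (M : X.Modules) (q : ℕ) {n : ℕ} (hn : IsUnit (n : Γ(X, ⊤))) :
    Function.Bijective (fun x : Multiplicative (Coh.HH X M q) => x ^ n) :=
  bijective_nsmul M q hn

variable (j : X₀ ⟶ X) [IsClosedImmersion j] (hj : j.ker ^ 2 = ⊥)

omit [IsClosedImmersion j] in
theorem pull_eq (c : Pic X) : pull j c = pull j.toImage (pull j.ker.subschemeι c) := by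
  rw [← pull_comp]
  congr 2
  exact j.toImage_imageι.symm

theorem pull_ker_eq (c : Pic X) : pull j.ker.subschemeι c = pull (inv j.toImage) (pull j c) := by
  rw [pull_eq j, ← pull_comp, IsIso.inv_hom_id, pull_id]

include hj

/-- **Roots lift along square-zero thickenings.** -/
theorem exists_root {n : ℕ} (hn : IsUnit (n : Γ(X, ⊤))) (N : Pic X) (L₀ : Pic X₀) (h : L₀ ^ n = pull j N) :
    ∃ L : Pic X, L ^ n = N ∧ pull j L = L₀ := by
  obtain ⟨-, -, α, δ, -, -, -, -, hα, hδ⟩ := K858.Thick.seven j.ker hj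
  have h1 : pull (inv j.toImage) L₀ ∈ (pull j.ker.subschemeι).range := by
    rw [← hδ, MonoidHom.mem_ker]
    apply (bijective_pow _ 2 hn).1
    change δ _ ^ n = 1 ^ n
    rw [one_pow, ← map_pow, ← map_pow, h, ← pull_ker_eq, ← MonoidHom.mem_ker, hδ]
    exact ⟨N, rfl⟩
  obtain ⟨L₁, hL₁⟩ := h1
  have h2 : pull j L₁ = L₀ := by
    rw [pull_eq j, hL₁, ← pull_comp, IsIso.hom_inv_id, pull_id]
  have h3 : N / L₁ ^ n ∈ α.range := by
    rw [← hα, MonoidHom.mem_ker, pull_ker_eq, map_div, map_pow, h2, h, div_self', map_one]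
  obtain ⟨z, hz⟩ := h3
  obtain ⟨w, hw⟩ := (bijective_pow _ 1 hn).2 z
  refine ⟨L₁ * α w, ?_, ?_⟩
  · rw [mul_pow, ← map_pow, show w ^ n = z from hw, hz, mul_div_cancel]
  · have h4 : pull j.ker.subschemeι (α w) = 1 := by
      rw [← MonoidHom.mem_ker, hα]
      exact ⟨w, rfl⟩
    rw [map_mul, h2, pull_eq j (α w), h4, map_one, mul_one]

/-- **Uniqueness.** -/
theorem eq_one_of_pow {n : ℕ} (hn : IsUnit (n : Γ(X, ⊤))) (hr : ∀ v : (Γ(X₀, ⊤))ˣ, ∃ w : (Γ(X₀, ⊤))ˣ, w ^ n = v)
    (c : Pic X) (hc : c ^ n = 1) (h : pull j c = 1) : c = 1 := by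
  obtain ⟨-, δ₀, α, -, -, -, -, hδ₀, hα, -⟩ := K858.Thick.seven j.ker hj
  have h1 : c ∈ α.range := by
    rw [← hα, MonoidHom.mem_ker, pull_ker_eq, h, map_one]
  obtain ⟨z, rfl⟩ := h1
  have h2 : z ^ n ∈ δ₀.range := by
    rw [← hδ₀, MonoidHom.mem_ker, map_pow, hc]
  obtain ⟨v, hv⟩ := h2
  -- `v` is an `n`-th power
  obtain ⟨w, hw⟩ : ∃ w, w ^ n = v := by
    obtain ⟨w, hw⟩ := hr (Units.map j.toImage.appTop.hom.toMonoidHom v)
    refine ⟨Units.map (inv j.toImage).appTop.hom.toMonoidHom w, ?_⟩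
    rw [← map_pow, hw]
    apply Units.ext
    change (inv j.toImage).appTop.hom (j.toImage.appTop.hom v) = v
    rw [← CommRingCat.comp_apply, ← Scheme.Hom.comp_appTop, IsIso.inv_hom_id]
    rfl
  have h3 : δ₀ w = z := by
    apply (bijective_pow _ 1 hn).1
    change δ₀ w ^ n = z ^ n
    rw [← map_pow, hw, hv]
  rw [← MonoidHom.mem_ker, hδ₀]
  exact ⟨w, h3⟩

end K371.PicRoot
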