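import Groth.Agent.FGA.K371.AlgRoot
import Groth.Agent.FGA.K371.PicRoot
import Groth.Agent.Biell.K440.FpClass
import Groth.Agent.Divis.IdealComap
import Groth.Agent.Lift.K695.ClFib
import Groth.Agent.S5075

/-!
# The power maps of the Picard scheme are étale

`f : X ⟶ S` proper, `P` locally of finite type over `S` representing the étale sheafified relative Picard functor,
`n` a natural number.

* `etale_of_class`: `d` a class on `X_A`, `c` a class on `X_B` with étale classifying maps and `d ∣ X_B = c ^ n`,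
  `n` invertible in `B`. Then `B` is étale over `A`.
-/

set_option autoImplicit false
universe u

open CategoryTheory CategoryTheory.Limits AlgebraicGeometry Opposite
open Groth.Agent.Ega2.LimPic
open Groth.Agent.Ega3A.PicDiv Groth.Agent.Ega3A.PicEtSh Groth.Agent.Grpsch.PicGrp
open Groth.Agent.Ega3A.PicSheaf Groth.Agent.Ega3A.PicLocBase Groth.Agent.Fga.RigGrp
open Groth.Agent.Pic13.H965

namespace K371.PicPow

variable {S X : Scheme.{u}} {f : X ⟶ S} {P : Over S}
  {φ : ∀ T : Over S, PicF.Cl (PicF.XT f T) → (T ⟶ P)} (hφ : PicRel.IsRelPic f P φ)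

theorem locEq_pow {T : Over S} {c c' : Pic (PicF.XT f T)} (h : LocEq f T c c') (n : ℕ) :
    LocEq f T (c ^ n) (c' ^ n) := by
  induction n with
  | zero => rw [pow_zero, pow_zero]; exact LocEq.refl _
  | succ n ih => rw [pow_succ, pow_succ]; exact ih.mul h

section Alg

variable {A B C C₀ : Type u} [CommRing A] [CommRing B] [CommRing C] [CommRing C₀] [Algebra A B] [Algebra A C]
  [Algebra A C₀] (t : Spec (CommRingCat.of A) ⟶ S)

theorem isClosedImmersion_spMap (q : C →ₐ[A] C₀) (hq : Function.Surjective q) :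
    IsClosedImmersion (spMap t q).left :=
  IsClosedImmersion.spec_of_surjective _ hq

/-- The closed immersion of a square-zero ideal is surjective. -/
theorem surjective_spMap (q : C →ₐ[A] C₀) (hq : Function.Surjective q) (hI : (RingHom.ker q) ^ 2 = ⊥) :
    Surjective (spMap t q).left := by
  constructor
  intro x
  have h1 : Set.range (PrimeSpectrum.comap (q : C →+* C₀)) = PrimeSpectrum.zeroLocus (RingHom.ker q) :=
    _root_.range_comap_of_surjective _ _ hq
  have h2 : (show PrimeSpectrum C from x) ∈ PrimeSpectrum.zeroLocus (RingHom.ker q : Set C) := by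
    intro a ha
    have h3 : a ^ 2 ∈ (show PrimeSpectrum C from x).asIdeal := by
      have : a ^ 2 ∈ (RingHom.ker q) ^ 2 := Ideal.pow_mem_pow ha 2
      rw [hI] at this
      rw [show a ^ 2 = 0 from this]
      exact Ideal.zero_mem _
    exact (show PrimeSpectrum C from x).2.mem_of_pow_mem 2 h3
  rw [← h1] at h2
  obtain ⟨y, hy⟩ := h2
  exact ⟨y, hy⟩

theorem isClosedImmersion_XTmap (q : C →ₐ[A] C₀) (hq : Function.Surjective q) :
    IsClosedImmersion (PicF.XTmap f (spMap t q)) := by
  have := isClosedImmersion_spMap t q hq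
  exact MorphismProperty.of_isPullback (Groth.Agent.Picfga.HilbPull.isPullback_XTmap f (spMap t q)).flip inferInstance

omit [CommRing A] in
/-- The ideal of the base change of a closed immersion of square zero has square zero. -/
theorem ker_sq {T T₀ Y Y₀ : Scheme.{u}} {f : Y ⟶ T} {i : T₀ ⟶ T} {j : Y₀ ⟶ Y} {f₀ : Y₀ ⟶ T₀}
    (H : IsPullback j f₀ f i) [IsClosedImmersion i] [IsAffine T]
    (hi : (i.ker.ideal ⟨⊤, isAffineOpen_top T⟩) ^ 2 = ⊥) : j.ker ^ 2 = ⊥ := by
  have h1 : j.ker = i.ker.comap f := by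
    rw [← Scheme.IdealSheafData.ker_fst_of_isClosedImmersion, ← H.isoPullback_hom_fst,
      Scheme.Hom.ker_comp_of_isIso]
  apply Scheme.IdealSheafData.ext
  funext U
  rw [Scheme.IdealSheafData.ideal_pow, Pi.pow_apply, h1,
    Groth.Agent.Divis.IdealComap.ideal_comap _ f ⟨⊤, isAffineOpen_top T⟩ U le_top, ← Ideal.map_pow, hi, Ideal.map_bot]
  rfl

theorem ker_XTmap (q : C →ₐ[A] C₀) (hq : Function.Surjective q) (hI : (RingHom.ker q) ^ 2 = ⊥) :
    (PicF.XTmap f (spMap t q)).ker ^ 2 = ⊥ := by
  have h1 := isClosedImmersion_spMap t q hq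
  have : IsAffine (spO t C).left := inferInstanceAs (IsAffine (Spec _))
  refine ker_sq (Groth.Agent.Picfga.HilbPull.isPullback_XTmap f (spMap t q)) ?_
  have h4 : (spMap t q).left.ker.ideal ⟨⊤, isAffineOpen_top _⟩ =
      (RingHom.ker q).map (Scheme.ΓSpecIso (CommRingCat.of C)).inv.hom :=
    K695.ClFib.ker_specMap_ideal (q : C →+* C₀)
  rw [h4, ← Ideal.map_pow, hI, Ideal.map_bot]

theorem isUnit_natCast_XT {n : ℕ} (hn : IsUnit (n : C)) : IsUnit (n : Γ(PicF.XT f (spO t C), ⊤)) := by
  have h1 : IsUnit (n : Γ(Spec (CommRingCat.of C), ⊤)) := by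
    have := hn.map (Scheme.ΓSpecIso (CommRingCat.of C)).inv.hom
    rwa [map_natCast] at this
  have h2 := h1.map (PicF.XTproj f (spO t C)).appTop.hom
  rwa [map_natCast] at h2

include hφ

variable (d : Pic (PicF.XT f (spO t A))) (c : Pic (PicF.XT f (spO t B))) {n : ℕ}
  (hcd : pu f (spMap t (Algebra.ofId A B)) d = c ^ n)

/-- Lifts are unique. -/
theorem lift_unique (hc : Etale (RelGrp.cm φ c).left) (q : C →ₐ[A] C₀) (hq : Function.Surjective q)
    (hI : (RingHom.ker q) ^ 2 = ⊥) (g g' : B →ₐ[A] C) (h : q.comp g = q.comp g')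
    (hL : pu f (spMap t g) c = pu f (spMap t g') c) : g = g' := by
  have h1 := isClosedImmersion_spMap t q hq
  have h2 := surjective_spMap t q hq hI
  have h3 : ∀ g : B →ₐ[A] C, (spMap t q).left ≫ (spMap t g).left = (spMap t (q.comp g)).left := fun g => by
    rw [← Over.comp_left, spMap_comp]
  have h4 : (spMap t g).left = (spMap t g').left := by
    refine (Groth.Agent.S5075.result (RelGrp.cm φ c).left ((spMap t g).left ≫ (RelGrp.cm φ c).left)
      (spMap t q).left ((spMap t (q.comp g)).left) ?_).unique ⟨rfl, h3 g⟩ ⟨?_, ?_⟩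
    · rw [← Category.assoc, h3]
    · have h5 : spMap t g' ≫ RelGrp.cm φ c = spMap t g ≫ RelGrp.cm φ c := by
        rw [← RelGrp.cm_pu hφ, ← RelGrp.cm_pu hφ, hL]
      exact congrArg (fun k => k.left) h5
    · rw [h3, h]
  have h5 : CommRingCat.ofHom g.toRingHom = CommRingCat.ofHom g'.toRingHom := Spec.map_injective h4
  ext b
  exact congr(($h5).hom b)

include hcd

/-- The core lifting argument. -/
theorem exists_lift (hd : Etale (RelGrp.cm φ d).left) (hc : Etale (RelGrp.cm φ c).left) (q : C →ₐ[A] C₀)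
    (hq : Function.Surjective q) (hI : (RingHom.ker q) ^ 2 = ⊥) (g : B →ₐ[A] C₀)
    (L : Pic (PicF.XT f (spO t C))) (hL : L ^ n = pu f (spMap t (Algebra.ofId A C)) d)
    (hL₀ : pu f (spMap t q) L = pu f (spMap t g) c) : ∃ g' : B →ₐ[A] C, q.comp g' = g := by
  have i1 := isClosedImmersion_spMap t q hq
  have i2 := surjective_spMap t q hq hI
  have h1 : spMap t q ≫ RelGrp.cm φ L = spMap t g ≫ RelGrp.cm φ c := by
    rw [← RelGrp.cm_pu hφ, hL₀, RelGrp.cm_pu hφ]
  obtain ⟨l, ⟨hl1, hl2⟩, -⟩ := Groth.Agent.S5075.result (RelGrp.cm φ c).left (RelGrp.cm φ L).left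
    (spMap t q).left (spMap t g).left
    (by
      have := congrArg (fun k => k.left) h1
      exact this.symm)
  obtain ⟨ψ, hψ⟩ : ∃ ψ : CommRingCat.of B ⟶ CommRingCat.of C, Spec.map ψ = l := Spec.map_surjective l
  subst hψ
  -- `l` as a morphism over `S`
  let lO : spO t C ⟶ spO t B := Over.homMk (Spec.map ψ) (by
    rw [← Over.w (RelGrp.cm φ c), ← Over.w (RelGrp.cm φ L), ← hl1, Category.assoc])
  have h2 : lO ≫ RelGrp.cm φ c = RelGrp.cm φ L := Over.OverMorphism.ext hl1
  have h3 : RelGrp.cm φ (pu f lO c) = RelGrp.cm φ L := by rw [RelGrp.cm_pu hφ, h2]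
  have h4 : RelGrp.cm φ ((pu f lO c) ^ n) = RelGrp.cm φ (L ^ n) :=
    (RelGrp.cm_eq_iff hφ).mpr (locEq_pow ((RelGrp.cm_eq_iff hφ).mp h3) n)
  have h5 : (lO ≫ spMap t (Algebra.ofId A B)) ≫ RelGrp.cm φ d = spMap t (Algebra.ofId A C) ≫ RelGrp.cm φ d := by
    rw [Category.assoc, ← RelGrp.cm_pu hφ, ← RelGrp.cm_pu hφ, hcd, map_pow, h4, hL, RelGrp.cm_pu hφ]
  -- compatibility with `A`
  have h9 : (spMap t q).left ≫ (spMap t (Algebra.ofId A C)).left = (spMap t (Algebra.ofId A C₀)).left := by
    rw [← Over.comp_left, spMap_comp]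
    congr 3
    exact Subsingleton.elim _ _
  have h6 : Spec.map ψ ≫ (spMap t (Algebra.ofId A B)).left = (spMap t (Algebra.ofId A C)).left := by
    refine (Groth.Agent.S5075.result (RelGrp.cm φ d).left
      ((spMap t (Algebra.ofId A C)).left ≫ (RelGrp.cm φ d).left)
      (spMap t q).left ((spMap t (Algebra.ofId A C₀)).left) ?_).unique ⟨?_, ?_⟩ ⟨rfl, ?_⟩
    · rw [← Category.assoc, h9]
    · exact congrArg (fun k => k.left) h5
    · rw [← Category.assoc, hl2, ← Over.comp_left, spMap_comp]
      congr 3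
      exact Subsingleton.elim _ _
    · exact h9
  have h7 : CommRingCat.ofHom (algebraMap A B) ≫ ψ = CommRingCat.ofHom (algebraMap A C) := by
    apply Spec.map_injective
    rw [Spec.map_comp]
    exact h6
  have h8 : ψ ≫ CommRingCat.ofHom q.toRingHom = CommRingCat.ofHom g.toRingHom := by
    apply Spec.map_injective
    rw [Spec.map_comp]
    exact hl2
  refine ⟨{ ψ.hom with commutes' := fun r => congr(($h7).hom r) }, ?_⟩
  ext b
  exact congr(($h8).hom b)

/-- Formal smoothness. -/
theorem formallySmooth (hd : Etale (RelGrp.cm φ d).left) (hc : Etale (RelGrp.cm φ c).left) (hn : IsUnit (n : B)) :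
    Algebra.FormallySmooth A B := by
  apply Algebra.FormallySmooth.of_comp_surjective
  intro C _ _ I hI g
  have hq : Function.Surjective (Ideal.Quotient.mkₐ A I) := Ideal.Quotient.mk_surjective
  have hI' : (RingHom.ker (Ideal.Quotient.mkₐ A I)) ^ 2 = ⊥ := by
    have h0 : RingHom.ker (Ideal.Quotient.mkₐ A I) = I := by
      ext x
      exact Ideal.Quotient.eq_zero_iff_mem
    rw [h0]
    exact hI
  have hnC : IsUnit (n : C) := by
    have h1 : IsUnit (Ideal.Quotient.mk I (n : C)) := by
      have := hn.map g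
      rwa [map_natCast, ← map_natCast (Ideal.Quotient.mk I)] at this
    exact (IsNilpotent.isUnit_quotient_mk_iff ⟨2, hI⟩).mp h1
  have i1 := isClosedImmersion_XTmap (f := f) t (Ideal.Quotient.mkₐ A I) hq
  obtain ⟨L, hL1, hL2⟩ := K371.PicRoot.exists_root (PicF.XTmap f (spMap t (Ideal.Quotient.mkₐ A I)))
    (ker_XTmap t _ hq hI') (isUnit_natCast_XT t hnC) (pu f (spMap t (Algebra.ofId A C)) d) (pu f (spMap t g) c) (by
      rw [← map_pow, ← hcd]
      change pu f (spMap t g) (pu f (spMap t (Algebra.ofId A B)) d) =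
        pu f (spMap t (Ideal.Quotient.mkₐ A I)) (pu f (spMap t (Algebra.ofId A C)) d)
      rw [← pu_comp, ← pu_comp, spMap_comp, spMap_comp]
      congr 3
      exact Subsingleton.elim _ _)
  exact exists_lift hφ t d c hcd hd hc _ hq hI' g L hL1 hL2

/-- Formal unramifiedness. -/
theorem formallyUnramified [UniversallyClosed f] [Algebra.FiniteType A B] (hc : Etale (RelGrp.cm φ c).left)
    (hn : IsUnit (n : B)) : Algebra.FormallyUnramified A B := by
  apply K371.AlgRoot.formallyUnramified_of_dual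
  intro K _ _ _ g g' hgg'
  let q := TrivSqZeroExt.fstHom A K K
  have hq : Function.Surjective q := TrivSqZeroExt.fst_surjective
  have hI : (RingHom.ker q) ^ 2 = ⊥ := K371.AlgRoot.ker_fst_sq A K
  have hnC : IsUnit (n : TrivSqZeroExt K K) := by
    have := hn.map g
    rwa [map_natCast] at this
  have hnK : (n : K) ≠ 0 := by
    have := hnC.map q
    rw [map_natCast] at this
    exact this.ne_zero
  have i1 := isClosedImmersion_XTmap (f := f) t q hq
  refine lift_unique hφ t c hc q hq hI g g' hgg' ?_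
  rw [← div_eq_one]
  refine K371.PicRoot.eq_one_of_pow (PicF.XTmap f (spMap t q)) (ker_XTmap t _ hq hI) (isUnit_natCast_XT t hnC) ?_ _
    ?_ ?_
  · intro v
    have H0 : IsPullback (pullback.fst f (spO t K).hom) (PicF.XTproj f (spO t K)) f (spO t K).hom :=
      IsPullback.of_hasPullback f (spO t K).hom
    have h1 : UniversallyClosed (PicF.XTproj f (spO t K)) := MorphismProperty.of_isPullback H0 inferInstance
    have : IsAffine (spO t K).left := inferInstanceAs (IsAffine (Spec _))
    have h2 : (PicF.XTproj f (spO t K)).appTop.hom.IsIntegral := isIntegral_appTop_of_universallyClosed _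
    let θ : K →+* Γ(PicF.XT f (spO t K), ⊤) :=
      (PicF.XTproj f (spO t K)).appTop.hom.comp (Scheme.ΓSpecIso (CommRingCat.of K)).inv.hom
    have h3 : θ.IsIntegral := RingHom.IsIntegral.trans _ _
      (RingHom.isIntegral_of_surjective _ (ConcreteCategory.bijective_of_isIso (Scheme.ΓSpecIso (CommRingCat.of K)).inv).2) h2
    let _ := θ.toAlgebra
    have h4 : Algebra.IsIntegral K Γ(PicF.XT f (spO t K), ⊤) := ⟨h3⟩
    exact K371.AlgRoot.exists_pow_eq hnK v
  · rw [div_pow, ← map_pow, ← map_pow, ← hcd, ← pu_comp, ← pu_comp, spMap_comp, spMap_comp,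
      Subsingleton.elim (g.comp (Algebra.ofId A B)) (g'.comp (Algebra.ofId A B)), div_self']
  · rw [map_div]
    change pu f (spMap t q) (pu f (spMap t g) c) / pu f (spMap t q) (pu f (spMap t g') c) = 1
    rw [← pu_comp, ← pu_comp, spMap_comp, spMap_comp, hgg', div_self']

/-- **The étaleness statement in terms of classes.** -/
theorem etale_of_class [UniversallyClosed f] [QuasiCompact f] [QuasiSeparated f] [LocallyOfFiniteType t]
    (hd : Etale (RelGrp.cm φ d).left) (hc : Etale (RelGrp.cm φ c).left) (hn : IsUnit (n : B)) :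
    Algebra.Etale A B := by
  have h3 : LocallyOfFinitePresentation (RelGrp.cm φ c).left := inferInstance
  have h4 := K440.FpClass.finitePresentation_of_class t f hφ c h3
  have h5 := formallySmooth hφ t d c hcd hd hc hn
  have h6 := formallyUnramified hφ t d c hcd hc hn
  have h7 : Algebra.FormallyEtale A B := Algebra.FormallyEtale.of_formallyUnramified_and_formallySmooth
  exact ⟨h7, h4⟩

end Alg

end K371.PicPow
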