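import Groth.Agent.FGA.K371.PicPow
import Groth.Agent.Flat2G.EtaleSource

/-!
# The power maps of the Picard scheme are étale: globalization

* `etale_of_ecov`: étaleness is étale-local on the source (objects over `S`);
* `etale_of_classes`: a morphism `s : E ⟶ W` of charts of `P` with `s^* d = c ^ n` is étale;
* `etale_comp`: if `g : T ⟶ P` is étale, `n` invertible on `T` and `m` is the `n`-th power map, then `g ≫ m` is étale.
-/

set_option autoImplicit false
universe u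

open CategoryTheory CategoryTheory.Limits AlgebraicGeometry Opposite
open Groth.Agent.Ega2.LimPic
open Groth.Agent.Ega3A.PicDiv Groth.Agent.Ega3A.PicEtSh Groth.Agent.Grpsch.PicGrp
open Groth.Agent.Ega3A.PicSheaf Groth.Agent.Ega3A.PicLocBase Groth.Agent.Fga.RigGrp
open Groth.Agent.Pic13.H965

namespace K371.PicPow

variable {S X : Scheme.{u}}

/-- Étaleness is étale-local on the source. -/
theorem etale_of_ecov {T Z : Over S} (𝒰 : ECov T) (h : T ⟶ Z) (H : ∀ i, Etale (𝒰.j i ≫ h).left) :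
    Etale h.left := by
  let p : (∐ fun i => (𝒰.V i).left) ⟶ T.left := Sigma.desc fun i => (𝒰.j i).left
  have hι : ∀ i, Sigma.ι (fun i => (𝒰.V i).left) i ≫ p = (𝒰.j i).left := fun i => Sigma.ι_desc _ _
  have hs : Surjective p := by
    constructor
    intro y
    obtain ⟨i, v, hv⟩ := 𝒰.covers y
    refine ⟨Sigma.ι (fun i => (𝒰.V i).left) i v, ?_⟩
    rw [← Scheme.Hom.comp_apply, hι, hv]
  have he : Etale p := by
    rw [IsZariskiLocalAtSource.iff_of_openCover (P := (@Etale : MorphismProperty Scheme.{u})) (sigmaOpenCover _)]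
    intro i
    change Etale (Sigma.ι (fun i => (𝒰.V i).left) i ≫ p)
    rw [hι i]
    infer_instance
  have hl : Etale (p ≫ h.left) := by
    rw [IsZariskiLocalAtSource.iff_of_openCover (P := (@Etale : MorphismProperty Scheme.{u})) (sigmaOpenCover _)]
    intro i
    change Etale (Sigma.ι (fun i => (𝒰.V i).left) i ≫ p ≫ h.left)
    rw [← Category.assoc, hι i]
    exact H i
  exact Groth.Agent.Flat2G.EtaleSource.etale_of_comp p h.left

variable {f : X ⟶ S} {P : Over S}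
  {φ : ∀ T : Over S, PicF.Cl (PicF.XT f T) → (T ⟶ P)} (hφ : PicRel.IsRelPic f P φ)

include hφ

/-- A morphism between charts of the Picard scheme which is the `n`-th power on classes is étale. -/
theorem etale_of_classes [UniversallyClosed f] [QuasiCompact f] [QuasiSeparated f] [LocallyOfFiniteType P.hom]
    {E W : Over S} (s : E ⟶ W) (c : Pic (PicF.XT f E)) (d : Pic (PicF.XT f W)) {n : ℕ}
    (hcd : pu f s d = c ^ n) (hd : Etale (RelGrp.cm φ d).left) (hc : Etale (RelGrp.cm φ c).left)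
    (hn : IsUnit (n : Γ(E.left, ⊤))) : Etale s.left := by
  rw [HasRingHomProperty.iff_appLE (P := @Etale)]
  intro U V e
  let ψ : Γ(W.left, U) ⟶ Γ(E.left, V) := s.left.appLE U V e
  let t : Spec (CommRingCat.of Γ(W.left, U)) ⟶ S := U.2.fromSpec ≫ W.hom
  have hWlft : LocallyOfFiniteType W.hom := by
    rw [← Over.w (RelGrp.cm φ d)]
    infer_instance
  have hU : IsOpenImmersion U.2.fromSpec := U.2.isOpenImmersion_fromSpec
  have hV : IsOpenImmersion V.2.fromSpec := V.2.isOpenImmersion_fromSpec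
  have ht : LocallyOfFiniteType t := by
    change LocallyOfFiniteType (U.2.fromSpec ≫ W.hom)
    infer_instance
  let _ : Algebra Γ(W.left, U) Γ(E.left, V) := ψ.hom.toAlgebra
  have hfs : Spec.map ψ ≫ U.2.fromSpec = V.2.fromSpec ≫ s.left :=
    IsAffineOpen.SpecMap_appLE_fromSpec s.left U.2 V.2 e
  let gW : spO t Γ(W.left, U) ⟶ W := Over.homMk U.2.fromSpec (by
    change U.2.fromSpec ≫ W.hom = Spec.map (𝟙 _) ≫ t
    rw [Spec.map_id, Category.id_comp])
  let gE : spO t Γ(E.left, V) ⟶ E := Over.homMk V.2.fromSpec (by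
    change V.2.fromSpec ≫ E.hom = Spec.map ψ ≫ U.2.fromSpec ≫ W.hom
    rw [reassoc_of% hfs, Over.w])
  have hg : gE ≫ s = spMap t (Algebra.ofId Γ(W.left, U) Γ(E.left, V)) ≫ gW := by
    apply Over.OverMorphism.ext
    exact hfs.symm
  have h1 : pu f (spMap t (Algebra.ofId Γ(W.left, U) Γ(E.left, V))) (pu f gW d) = (pu f gE c) ^ n := by
    rw [← pu_comp, ← hg, pu_comp, hcd, map_pow]
  have h2 : Etale (RelGrp.cm φ (pu f gE c)).left := by
    rw [RelGrp.cm_pu hφ]
    change Etale (V.2.fromSpec ≫ (RelGrp.cm φ c).left)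
    infer_instance
  have h3 : Etale (RelGrp.cm φ (pu f gW d)).left := by
    rw [RelGrp.cm_pu hφ]
    change Etale (U.2.fromSpec ≫ (RelGrp.cm φ d).left)
    infer_instance
  have h4 : IsUnit (n : Γ(E.left, V)) := by
    have := hn.map (E.left.presheaf.map (homOfLE (le_top : V.1 ≤ ⊤)).op).hom
    rwa [map_natCast] at this
  have h5 := etale_of_class hφ t (pu f gW d) (pu f gE c) h1 h3 h2 h4
  exact RingHom.etale_algebraMap.mpr h5

/-- **The power maps are étale.** -/
theorem etale_comp [UniversallyClosed f] [QuasiCompact f] [QuasiSeparated f] [LocallyOfFiniteType P.hom]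
    {n : ℕ} (m : P ⟶ P) (hm : ∀ (T : Over S) (c : Pic (PicF.XT f T)), RelGrp.cm φ (c ^ n) = RelGrp.cm φ c ≫ m)
    {T : Over S} (g : T ⟶ P) (hg : Etale g.left) (hn : IsUnit (n : Γ(T.left, ⊤))) : Etale (g ≫ m).left := by
  obtain ⟨𝒲, d, hd⟩ := RelGrp.exists_cm hφ (𝟙 P)
  obtain ⟨𝒰, c, hc⟩ := RelGrp.exists_cm hφ g
  refine etale_of_ecov 𝒰 _ fun i => ?_
  obtain ⟨𝒱, h𝒱⟩ := exists_pull 𝒲 (𝒰.j i ≫ g ≫ m)
  refine etale_of_ecov 𝒱 _ fun k => ?_
  obtain ⟨w, s, hs⟩ := h𝒱 k
  have h1 : RelGrp.cm φ (pu f s (d w)) = RelGrp.cm φ ((pu f (𝒱.j k) (c i)) ^ n) := by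
    rw [hm, RelGrp.cm_pu hφ, RelGrp.cm_pu hφ, hd, hc, Category.comp_id, ← hs, Category.assoc, Category.assoc]
  obtain ⟨𝒬, h𝒬⟩ := (RelGrp.cm_eq_iff hφ).mp h1
  refine etale_of_ecov 𝒬 _ fun q => ?_
  have h2 : 𝒬.j q ≫ 𝒱.j k ≫ 𝒰.j i ≫ g ≫ m = (𝒬.j q ≫ s) ≫ 𝒲.j w := by
    rw [hs, Category.assoc]
  rw [h2]
  have h3 : Etale (𝒬.j q ≫ s).left := by
    refine etale_of_classes hφ (𝒬.j q ≫ s) (pu f (𝒬.j q ≫ 𝒱.j k) (c i)) (d w) (n := n) ?_ ?_ ?_ ?_
    · rw [pu_comp, h𝒬 q, map_pow, pu_comp]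
    · rw [hd, Category.comp_id]
      infer_instance
    · rw [RelGrp.cm_pu hφ, hc]
      change Etale (((𝒬.j q).left ≫ (𝒱.j k).left) ≫ (𝒰.j i).left ≫ g.left)
      infer_instance
    · have := hn.map ((𝒬.j q).left ≫ (𝒱.j k).left ≫ (𝒰.j i).left).appTop.hom
      rwa [map_natCast] at this
  change Etale ((𝒬.j q ≫ s).left ≫ (𝒲.j w).left)
  infer_instance

end K371.PicPow
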